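import Mathlib

/-!
# Full faithfulness on bounded below derived categories
-/

open CategoryTheory CategoryTheory.Limits HomologicalComplex
universe w w' v v' u u'

namespace DerCatFF

variable {A' : Type u'} [Category.{v'} A'] [Abelian A'] {A : Type u} [Category.{v} A] [Abelian A]
  (ι : A' ⥤ A) [ι.Additive] [ι.Full] [ι.Faithful]

lemma injective_of_injective_map [PreservesFiniteLimits ι] (Y : A') [Injective (ι.obj Y)] : Injective Y where
  factors {P Q} g f hf := by
    haveI : Mono (ι.map f) := inferInstance
    obtain ⟨h, hh⟩ := ι.map_surjective (Injective.factorThru (ι.map g) (ι.map f))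
    exact ⟨h, ι.map_injective (by rw [ι.map_comp, hh, Injective.comp_factorThru])⟩

lemma injective_map [PreservesFiniteLimits ι]
    (hinj : ∀ X' : A', ∃ (Y' : A') (i : X' ⟶ Y'), Mono i ∧ Injective (ι.obj Y')) (I : A') [Injective I] :
    Injective (ι.obj I) := by
  obtain ⟨Y', i, hi, hY⟩ := hinj I
  exact Retract.injective (Y := ι.obj Y')
    { i := ι.map i
      r := ι.map (Injective.factorThru (𝟙 I) i)
      retract := by rw [← ι.map_comp, Injective.comp_factorThru, ι.map_id] }

lemma enoughInjectives [PreservesFiniteLimits ι]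
    (hinj : ∀ X' : A', ∃ (Y' : A') (i : X' ⟶ Y'), Mono i ∧ Injective (ι.obj Y')) : EnoughInjectives A' where
  presentation X := by
    obtain ⟨Y', i, hi, hY⟩ := hinj X
    exact ⟨{ J := Y', injective := injective_of_injective_map ι Y', f := i, mono := hi }⟩

lemma mapHomotopy_bijective (K L : CochainComplex A' ℤ) :
    Function.Bijective (fun f : (HomotopyCategory.quotient A' (ComplexShape.up ℤ)).obj K ⟶
        (HomotopyCategory.quotient A' (ComplexShape.up ℤ)).obj L => (ι.mapHomotopyCategory _).map f) := by
  constructor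
  · intro f g h
    obtain ⟨f, rfl⟩ := (HomotopyCategory.quotient _ _).map_surjective f
    obtain ⟨g, rfl⟩ := (HomotopyCategory.quotient _ _).map_surjective g
    let H := HomotopyCategory.homotopyOfEq ((ι.mapHomologicalComplex _).map f) ((ι.mapHomologicalComplex _).map g) h
    let h' : ∀ i j, ι.obj (K.X i) ⟶ ι.obj (L.X j) := H.hom
    have hz : ∀ i j, ¬ (ComplexShape.up ℤ).Rel j i → h' i j = 0 := H.zero
    refine HomotopyCategory.eq_of_homotopy _ _
      { hom := fun i j => ι.preimage (h' i j)
        zero := fun i j hij => ι.map_injective (by rw [ι.map_preimage, hz i j hij, ι.map_zero])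
        comm := fun i => ι.map_injective ?_ }
    have hc := H.comm i
    rw [dNext_eq _ (show (ComplexShape.up ℤ).Rel i (i + 1) from rfl),
      prevD_eq _ (show (ComplexShape.up ℤ).Rel (i - 1) i by simp)] at hc ⊢
    simp only [ι.map_add, ι.map_comp, ι.map_preimage]
    simp [h'] at hc ⊢
    exact hc
  · intro g
    obtain ⟨g, rfl⟩ := (HomotopyCategory.quotient _ _).map_surjective g
    let g' : ∀ i, ι.obj (K.X i) ⟶ ι.obj (L.X i) := g.f
    have hg : ∀ i j, g' i ≫ ι.map (L.d i j) = ι.map (K.d i j) ≫ g' j := g.comm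
    exact ⟨(HomotopyCategory.quotient _ _).map
      { f := fun i => ι.preimage (g' i)
        comm' := fun i j _ => ι.map_injective (by rw [ι.map_comp, ι.map_comp, ι.map_preimage, ι.map_preimage]; exact hg i j) },
      congrArg (HomotopyCategory.quotient _ _).map (HomologicalComplex.hom_ext _ _ fun i => ι.map_preimage _)⟩

variable [HasDerivedCategory.{w'} A'] [HasDerivedCategory.{w} A] [PreservesFiniteLimits ι] [PreservesFiniteColimits ι]

lemma map_bijective_of_kInjective (K : CochainComplex A' ℤ) (L : CochainComplex A' ℤ) [L.IsKInjective]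
    [CochainComplex.IsKInjective ((ι.mapHomologicalComplex (ComplexShape.up ℤ)).obj L)] :
    Function.Bijective (fun f : DerivedCategory.Qh.obj ((HomotopyCategory.quotient _ _).obj K) ⟶
      DerivedCategory.Qh.obj ((HomotopyCategory.quotient _ _).obj L) => ι.mapDerivedCategory.map f) := by
  let qK := (HomotopyCategory.quotient A' (ComplexShape.up ℤ)).obj K
  let qL := (HomotopyCategory.quotient A' (ComplexShape.up ℤ)).obj L
  have h1 := CochainComplex.IsKInjective.Qh_map_bijective qK L
  have h2 := CochainComplex.IsKInjective.Qh_map_bijective ((ι.mapHomotopyCategory _).obj qK)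
    ((ι.mapHomologicalComplex (ComplexShape.up ℤ)).obj L)
  have h3 := mapHomotopy_bijective ι K L
  rw [← Function.Bijective.of_comp_iff _ h1,
    ← Function.Bijective.of_comp_iff' (Iso.homCongr (ι.mapDerivedCategoryFactorsh.app qK)
      (ι.mapDerivedCategoryFactorsh.app qL)).bijective]
  convert! h2.comp h3 using 1
  funext f
  refine (Iso.homCongr_apply _ _ _).trans ?_
  change ι.mapDerivedCategoryFactorsh.inv.app qK ≫ ι.mapDerivedCategory.map (DerivedCategory.Qh.map f) ≫
    ι.mapDerivedCategoryFactorsh.hom.app qL = DerivedCategory.Qh.map ((ι.mapHomotopyCategory _).map f)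
  exact NatIso.naturality_1 ι.mapDerivedCategoryFactorsh f

theorem map_bijective (hinj : ∀ X' : A', ∃ (Y' : A') (i : X' ⟶ Y'), Mono i ∧ Injective (ι.obj Y'))
    (X Y : DerivedCategory A') (b : ℤ) [Y.IsGE b] :
    Function.Bijective (fun f : X ⟶ Y => ι.mapDerivedCategory.map f) := by
  haveI := enoughInjectives ι hinj
  obtain ⟨K', hK', ⟨eY⟩⟩ := Y.exists_iso_Q_obj_of_isGE b
  obtain ⟨L, i, hi, hL, hLb⟩ := CochainComplex.Plus.modelCategoryQuillen.exists_quasiIso_injective K' b
  haveI := CochainComplex.isKInjective_of_injective L b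
  haveI : ∀ n, Injective (((ι.mapHomologicalComplex (ComplexShape.up ℤ)).obj L).X n) := fun n =>
    injective_map ι hinj (L.X n)
  haveI : CochainComplex.IsStrictlyGE ((ι.mapHomologicalComplex (ComplexShape.up ℤ)).obj L) b := by
    rw [CochainComplex.isStrictlyGE_iff]
    exact fun n hn => ι.map_isZero (L.isZero_of_isStrictlyGE b n hn)
  haveI := CochainComplex.isKInjective_of_injective ((ι.mapHomologicalComplex (ComplexShape.up ℤ)).obj L) b
  let eY' := eY ≪≫ asIso (DerivedCategory.Q.map i) ≪≫ ((DerivedCategory.quotientCompQhIso A').app L).symm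
  let eX := (DerivedCategory.Q.objObjPreimageIso X).symm ≪≫
    ((DerivedCategory.quotientCompQhIso A').app (DerivedCategory.Q.objPreimage X)).symm
  have h := map_bijective_of_kInjective ι (DerivedCategory.Q.objPreimage X) L
  constructor
  · intro f g hfg
    have hfg' : ι.mapDerivedCategory.map f = ι.mapDerivedCategory.map g := hfg
    have := h.1 (a₁ := eX.inv ≫ f ≫ eY'.hom) (a₂ := eX.inv ≫ g ≫ eY'.hom) (by
      change ι.mapDerivedCategory.map _ = ι.mapDerivedCategory.map _
      rw [Functor.map_comp, Functor.map_comp, Functor.map_comp, Functor.map_comp, hfg'])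
    exact (cancel_mono eY'.hom).1 ((cancel_epi eX.inv).1 this)
  · intro g
    obtain ⟨f, hf⟩ := h.2 (ι.mapDerivedCategory.map eX.inv ≫ g ≫ ι.mapDerivedCategory.map eY'.hom)
    refine ⟨eX.hom ≫ f ≫ eY'.inv, ?_⟩
    have hf' : ι.mapDerivedCategory.map f = ι.mapDerivedCategory.map eX.inv ≫ g ≫ ι.mapDerivedCategory.map eY'.hom := hf
    change ι.mapDerivedCategory.map (eX.hom ≫ f ≫ eY'.inv) = g
    simp only [Functor.map_comp, hf', Category.assoc]
    rw [← Functor.map_comp_assoc, eX.hom_inv_id, CategoryTheory.Functor.map_id, Category.id_comp, ← Functor.map_comp, eY'.hom_inv_id,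
      CategoryTheory.Functor.map_id, Category.comp_id]

end DerCatFF
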