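import Mathlib

/-!
# Bounded below complexes with cohomology in a thick subcategory with enough injectives
-/

set_option autoImplicit false

noncomputable section

universe v v' u u'

open CategoryTheory Limits

namespace DerCatFF.EssImage

variable {A' : Type u'} [Category.{v'} A'] [Abelian A'] {A : Type u} [Category.{v} A] [Abelian A]
  (ι : A' ⥤ A) [ι.Additive] [PreservesFiniteLimits ι] [PreservesFiniteColimits ι] [ι.Full] [ι.Faithful]
  (R : A' → Prop) (K : CochainComplex A ℤ)

/-- One degree of the resolution. -/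
structure St (n : ℤ) where
  L : A'
  inj : R L
  α : K.X n ⟶ ι.obj L
  Q : A
  hQ : ι.essImage Q
  π : ι.obj L ⟶ Q
  hπ : Epi π
  c : K.opcycles n ⟶ Q
  hc : ∀ ⦃T : A⦄ (x : T ⟶ K.opcycles n), x ≫ K.fromOpcycles n (n + 1) = 0 → x ≫ c = 0 → x = 0
  comm : K.pOpcycles n ≫ c = α ≫ π

/-- Two consecutive degrees. -/
def Step {m n : ℤ} (s : St ι R K m) (t : St ι R K n) : Prop :=
  ∃ δ : s.Q ⟶ ι.obj t.L, s.c ≫ δ = K.fromOpcycles m n ≫ t.α ∧
    (δ ≫ t.π = 0 ∧ ∀ ⦃T : A⦄ (g : ι.obj t.L ⟶ T), δ ≫ g = 0 → ∃ g' : t.Q ⟶ T, t.π ≫ g' = g) ∧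
      ∀ ⦃T : A⦄ (x : T ⟶ s.Q), x ≫ δ = 0 → ∃ y : T ⟶ K.opcycles m, y ≫ s.c = x ∧ y ≫ K.fromOpcycles m n = 0

omit [PreservesFiniteLimits ι] [ι.Faithful] in
lemma essImage_cokernel {X Y : A} (hX : ι.essImage X) (hY : ι.essImage Y) (g : X ⟶ Y) : ι.essImage (cokernel g) := by
  obtain ⟨X', ⟨eX⟩⟩ := hX
  obtain ⟨Y', ⟨eY⟩⟩ := hY
  obtain ⟨g', hg'⟩ := ι.map_surjective (eX.hom ≫ g ≫ eY.inv)
  exact ⟨cokernel g', ⟨PreservesCokernel.iso ι g' ≪≫ cokernel.mapIso _ _ eX eY (by rw [hg']; simp)⟩⟩

variable (hext : ∀ S : ShortComplex A, S.ShortExact → ι.essImage S.X₁ → ι.essImage S.X₃ → ι.essImage S.X₂)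
  (hinj : ∀ ⦃P W : A⦄ (k : W ⟶ P), Mono k → ι.essImage W → ∃ (Y : A') (e : P ⟶ ι.obj Y), R Y ∧ Mono (k ≫ e))
  (hK : ∀ i : ℤ, ι.essImage (K.homology i))

include hK in
omit [ι.Additive] [PreservesFiniteLimits ι] [PreservesFiniteColimits ι] [ι.Full] [ι.Faithful] in
lemma essImage_kernel_from (n : ℤ) : ι.essImage (kernel (K.fromOpcycles n (n + 1))) := by
  obtain ⟨X, ⟨e⟩⟩ := hK n
  exact ⟨X, ⟨e ≪≫ (K.homologyIsKernel n (n + 1) (by simp)).conePointUniqueUpToIso (limit.isLimit _)⟩⟩

include hext hinj hK in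
lemma exists_next {m n : ℤ} (h : m + 1 = n) (s : St ι R K m) : ∃ t : St ι R K n, Step ι R K s t := by
  subst h
  let f := K.fromOpcycles m (m + 1)
  let f' := K.fromOpcycles (m + 1) (m + 1 + 1)
  have hfp : f ≫ K.pOpcycles (m + 1) = 0 := by
    rw [← cancel_epi (K.pOpcycles m), ← Category.assoc, K.p_fromOpcycles, K.d_pOpcycles, comp_zero]
  let r : pushout f s.c ⟶ K.opcycles (m + 1) := pushout.desc (K.pOpcycles (m + 1)) 0 (by rw [hfp, comp_zero])
  let W := kernel (r ≫ f')
  have hr1 : pushout.inl f s.c ≫ r = K.pOpcycles (m + 1) := pushout.inl_desc _ _ _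
  have hr2 : pushout.inr f s.c ≫ r = 0 := pushout.inr_desc _ _ _
  let bm : s.Q ⟶ W := kernel.lift _ (pushout.inr f s.c) (by rw [reassoc_of% hr2, zero_comp])
  have hbm : bm ≫ kernel.ι (r ≫ f') = pushout.inr f s.c := kernel.lift_ι _ _ _
  have hker0 : (kernel.ι f ≫ s.c) ≫ bm = 0 := by
    rw [← cancel_mono (kernel.ι (r ≫ f')), Category.assoc, hbm, zero_comp, Category.assoc, ← pushout.condition,
      kernel.condition_assoc, zero_comp]
  let a : cokernel (kernel.ι f ≫ s.c) ⟶ W := cokernel.desc _ bm hker0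
  let b : W ⟶ kernel f' := kernel.lift _ (kernel.ι (r ≫ f') ≫ r) (by rw [Category.assoc, kernel.condition])
  have hb : b ≫ kernel.ι f' = kernel.ι (r ≫ f') ≫ r := kernel.lift_ι _ _ _
  have hab : a ≫ b = 0 := by
    rw [← cancel_epi (cokernel.π _), cokernel.π_desc_assoc, comp_zero, ← cancel_mono (kernel.ι f'), Category.assoc, hb,
      reassoc_of% hbm, pushout.inr_desc, zero_comp]
  have hkr : ∀ ⦃T : A⦄ (q : T ⟶ s.Q), q ≫ pushout.inr f s.c = 0 → ∃ (T' : A) (π : T' ⟶ T) (_ : Epi π)
      (y : T' ⟶ kernel f), π ≫ q = y ≫ kernel.ι f ≫ s.c := fun T q hq => by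
    haveI : Epi (kernel.map f (pushout.inr f s.c) s.c (pushout.inl f s.c) pushout.condition) :=
      Abelian.epi_kernel_map_of_isPushout (IsPushout.of_hasPushout f s.c)
    obtain ⟨T', π, hπ, y, hy⟩ := surjective_up_to_refinements_of_epi
      (kernel.map f (pushout.inr f s.c) s.c (pushout.inl f s.c) pushout.condition) (kernel.lift _ q hq)
    exact ⟨T', π, hπ, y, by simpa using congrArg (· ≫ kernel.ι _) hy⟩
  have hS : (ShortComplex.mk a b hab).ShortExact := by
    refine { exact := ?_, mono_f := ?_, epi_g := ?_ }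
    · rw [ShortComplex.exact_iff_exact_up_to_refinements]
      intro T x hx
      change x ≫ b = 0 at hx
      have hx' : (x ≫ kernel.ι (r ≫ f')) ≫ r = 0 := by rw [Category.assoc, ← hb, reassoc_of% hx, zero_comp]
      haveI : Epi (biprod.desc (pushout.inl f s.c) (pushout.inr f s.c)) :=
        (IsPushout.of_hasPushout f s.c).epi_shortComplex_g
      obtain ⟨T₁, π₁, hπ₁, z, hz⟩ := surjective_up_to_refinements_of_epi
        (biprod.desc (pushout.inl f s.c) (pushout.inr f s.c)) (x ≫ kernel.ι (r ≫ f'))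
      have hz0 : (z ≫ biprod.fst) ≫ K.pOpcycles (m + 1) = 0 := by
        have h1 := congrArg (· ≫ r) hz
        simp only [Category.assoc] at h1 hx'
        rw [hx', comp_zero] at h1
        refine Eq.trans ?_ h1.symm
        rw [biprod.desc_eq]
        simp [hr1, hr2]
      have hex : (ShortComplex.mk f (K.pOpcycles (m + 1)) hfp).Exact := by
        rw [ShortComplex.exact_iff_exact_up_to_refinements]
        intro T' y hy
        obtain ⟨T'', q, hq, w, hw⟩ := (ShortComplex.exact_of_g_is_cokernel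
          (ShortComplex.mk _ _ (K.d_pOpcycles m (m + 1))) (K.opcyclesIsCokernel m (m + 1) (by simp))).exact_up_to_refinements y hy
        exact ⟨T'', q, hq, w ≫ K.pOpcycles m, hw.trans ((congrArg (w ≫ ·) (K.p_fromOpcycles m (m + 1)).symm).trans
          (Category.assoc _ _ _).symm)⟩
      obtain ⟨T₂, π₂, hπ₂, u, hu⟩ := hex.exact_up_to_refinements _ hz0
      change π₂ ≫ z ≫ biprod.fst = u ≫ f at hu
      refine ⟨T₂, π₂ ≫ π₁, inferInstance, (u ≫ s.c + π₂ ≫ z ≫ biprod.snd) ≫ cokernel.π _, ?_⟩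
      change (π₂ ≫ π₁) ≫ x = _ ≫ a
      rw [Category.assoc, Category.assoc, cokernel.π_desc, ← cancel_mono (kernel.ι (r ≫ f'))]
      simp only [Category.assoc, hbm, Preadditive.add_comp]
      rw [hz, biprod.desc_eq, Preadditive.comp_add, Preadditive.comp_add, reassoc_of% hu, pushout.condition]
    · refine Preadditive.mono_of_cancel_zero _ fun {T} x hx => ?_
      obtain ⟨T₁, π₁, hπ₁, q, hq⟩ := surjective_up_to_refinements_of_epi (cokernel.π (kernel.ι f ≫ s.c)) x
      have hq0 : q ≫ pushout.inr f s.c = 0 := by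
        rw [← hbm, ← cokernel.π_desc (kernel.ι f ≫ s.c) bm hker0, Category.assoc, ← reassoc_of% hq,
          reassoc_of% hx]
        simp
      obtain ⟨T₂, π₂, hπ₂, y, hy⟩ := hkr q hq0
      rw [← cancel_epi π₁, ← cancel_epi π₂, hq, reassoc_of% hy, ← Category.assoc (kernel.ι f), cokernel.condition]
      simp
    · change Epi b
      rw [epi_iff_surjective_up_to_refinements]
      intro T y
      obtain ⟨T', π, hπ, z, hz⟩ := surjective_up_to_refinements_of_epi (K.pOpcycles (m + 1)) (y ≫ kernel.ι f')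
      refine ⟨T', π, hπ, kernel.lift _ (z ≫ pushout.inl f s.c) (by
        rw [Category.assoc, reassoc_of% hr1, ← reassoc_of% hz, kernel.condition, comp_zero, comp_zero]), ?_⟩
      rw [← cancel_mono (kernel.ι f'), Category.assoc, Category.assoc, hb, kernel.lift_ι_assoc, Category.assoc,
        pushout.inl_desc, hz]
  have hW : ι.essImage W :=
    hext _ hS (essImage_cokernel ι (essImage_kernel_from ι K hK m) s.hQ _) (essImage_kernel_from ι K hK (m + 1))
  obtain ⟨Y, e, hY, hj⟩ := hinj (kernel.ι (r ≫ f')) inferInstance hW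
  let j : W ⟶ ι.obj Y := kernel.ι (r ≫ f') ≫ e
  haveI : Mono j := hj
  have he : kernel.ι (r ≫ f') ≫ e = j := rfl
  let δ : s.Q ⟶ ι.obj Y := pushout.inr f s.c ≫ e
  let α : K.X (m + 1) ⟶ ι.obj Y := pushout.inl f s.c ≫ e
  have hcomm : s.c ≫ δ = f ≫ α := by
    simp only [δ, α, ← Category.assoc, pushout.condition]
  have hd : K.d m (m + 1) ≫ α ≫ cokernel.π δ = 0 := by
    rw [← K.p_fromOpcycles m (m + 1), Category.assoc, ← Category.assoc (K.fromOpcycles m (m + 1)), ← hcomm]
    simp
  let c : K.opcycles (m + 1) ⟶ cokernel δ :=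
    K.descOpcycles (α ≫ cokernel.π δ) m ((ComplexShape.up ℤ).prev_eq' rfl) hd
  have hcc : ∀ ⦃T : A⦄ (x : T ⟶ K.opcycles (m + 1)), x ≫ f' = 0 → x ≫ c = 0 → x = 0 := fun T x hxf hx => by
    obtain ⟨T', p, _, z, hz⟩ := surjective_up_to_refinements_of_epi (K.pOpcycles (m + 1)) x
    have h0 : (z ≫ α) ≫ cokernel.π δ = 0 := by
      have := congrArg (p ≫ ·) hx
      simp only [comp_zero] at this
      rw [← Category.assoc, hz, Category.assoc, HomologicalComplex.p_descOpcycles] at this
      rw [Category.assoc]; exact this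
    obtain ⟨T'', q, _, w, hw⟩ := (ShortComplex.exact_of_g_is_cokernel (ShortComplex.mk δ (cokernel.π δ) (cokernel.condition δ))
      (cokernelIsCokernel δ)).exact_up_to_refinements (z ≫ α) h0
    change q ≫ z ≫ α = w ≫ δ at hw
    let u : T'' ⟶ W := kernel.lift _ ((q ≫ z) ≫ pushout.inl f s.c - w ≫ pushout.inr f s.c) (by
      simp only [Preadditive.sub_comp, Category.assoc, reassoc_of% hr1, reassoc_of% hr2, ← reassoc_of% hz, hxf,
        comp_zero, zero_comp, sub_zero])
    have hu : u ≫ kernel.ι (r ≫ f') = (q ≫ z) ≫ pushout.inl f s.c - w ≫ pushout.inr f s.c := kernel.lift_ι _ _ _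
    have hu0 : u = 0 := by
      rw [← cancel_mono j, zero_comp, ← he, reassoc_of% hu]
      simpa [Preadditive.sub_comp, sub_eq_zero, α, δ] using hw
    rw [hu0, zero_comp] at hu
    have h1 := congrArg (· ≫ r) hu.symm
    simp only [Preadditive.sub_comp, Category.assoc, r, pushout.inl_desc, pushout.inr_desc, comp_zero, sub_zero,
      zero_comp, ← hz] at h1
    rw [← Category.assoc] at h1
    exact (cancel_epi (q ≫ p)).1 (h1.trans comp_zero.symm)
  refine ⟨⟨Y, hY, α, cokernel δ, essImage_cokernel ι s.hQ ⟨Y, ⟨Iso.refl _⟩⟩ δ, cokernel.π δ, inferInstance, c, hcc, ?_⟩,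
    δ, hcomm, ⟨cokernel.condition δ, fun T g hg => ⟨cokernel.desc δ g hg, cokernel.π_desc _ _ _⟩⟩, ?_⟩
  · exact K.p_descOpcycles _ _ _ _
  · intro T x hx
    have hx1 : x ≫ bm = 0 := by
      rw [← cancel_mono j, zero_comp, Category.assoc, ← he, reassoc_of% hbm]
      exact hx
    have hx' : x ≫ pushout.inr f s.c = 0 := by rw [← hbm, reassoc_of% hx1, zero_comp]
    let φ := kernel.map f (pushout.inr f s.c) s.c (pushout.inl f s.c) pushout.condition
    have hφ : φ ≫ kernel.ι (pushout.inr f s.c) = kernel.ι f ≫ s.c := kernel.lift_ι _ _ _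
    haveI : Epi φ := Abelian.epi_kernel_map_of_isPushout (IsPushout.of_hasPushout f s.c)
    haveI : Mono φ := Preadditive.mono_of_cancel_zero _ fun {T} g hg => by
      rw [← cancel_mono (kernel.ι f), zero_comp]
      refine s.hc _ (by rw [Category.assoc, kernel.condition, comp_zero]) ?_
      rw [Category.assoc, ← hφ, reassoc_of% hg, zero_comp]
    haveI : IsIso φ := isIso_of_mono_of_epi φ
    refine ⟨kernel.lift _ x hx' ≫ inv φ ≫ kernel.ι f, ?_, ?_⟩
    · rw [Category.assoc, Category.assoc, ← hφ, IsIso.inv_hom_id_assoc, kernel.lift_ι]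
    · simp [f]

variable (a : ℤ) [K.IsStrictlyGE a] {Z : A'} (hZ : IsZero Z) (hRZ : R Z)

/-- The zero degrees. -/
def base (n : ℤ) (h : n < a) : St ι R K n where
  L := Z
  inj := hRZ
  α := 0
  Q := ι.obj Z
  hQ := ⟨Z, ⟨Iso.refl _⟩⟩
  π := 𝟙 _
  hπ := inferInstance
  c := 0
  hc := fun T x _ _ => by
    have h0 : IsZero (K.opcycles n) := by
      rw [IsZero.iff_id_eq_zero, ← cancel_epi (K.pOpcycles n)]
      exact (K.isZero_of_isStrictlyGE a n h).eq_of_src _ _
    exact h0.eq_of_tgt _ _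
  comm := by simp

/-- All degrees. -/
def st (n : ℤ) : St ι R K n :=
  if h : n < a then base ι R K a hRZ n h
  else (exists_next ι R K hext hinj hK (show n - 1 + 1 = n by omega) (st (n - 1))).choose
termination_by (n - a + 1).toNat
decreasing_by omega

include hZ in
lemma step_st (n : ℤ) : Step ι R K (st ι R K hext hinj hK a hRZ n) (st ι R K hext hinj hK a hRZ (n + 1)) := by
  suffices h : ∀ m k : ℤ, m + 1 = k → Step ι R K (st ι R K hext hinj hK a hRZ m) (st ι R K hext hinj hK a hRZ k) from h n _ rfl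
  intro m k hk
  obtain rfl : m = k - 1 := by omega
  conv => arg 5; rw [st]
  split_ifs with h
  · rw [st, dif_pos (show k - 1 < a by omega)]
    exact ⟨0, (ι.map_isZero hZ).eq_of_tgt _ _,
      ⟨zero_comp, fun T g _ => ⟨g, Category.id_comp _⟩⟩,
      fun T x _ => ⟨0, (ι.map_isZero hZ).eq_of_tgt _ _, zero_comp⟩⟩
  · exact (exists_next ι R K hext hinj hK (show k - 1 + 1 = k by omega) (st ι R K hext hinj hK a hRZ (k - 1))).choose_spec

include hext hinj hK hZ hRZ in
/-- A quasi-isomorphism into the image of a complex of relative injectives. -/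
theorem exists_resolution :
    ∃ (I : CochainComplex A' ℤ) (α : K ⟶ (ι.mapHomologicalComplex (ComplexShape.up ℤ)).obj I),
      I.IsStrictlyGE a ∧ (∀ n, R (I.X n)) ∧ QuasiIso α := by
  let S := st ι R K hext hinj hK a hRZ
  choose δ hδc hδcok hδker using fun n => step_st ι R K hext hinj hK a hZ hRZ n
  let I : CochainComplex A' ℤ := CochainComplex.of (fun n => (S n).L) (fun n => ι.preimage ((S n).π ≫ δ n)) (fun n => by
    apply ι.map_injective
    rw [ι.map_comp, ι.map_preimage, ι.map_preimage, ι.map_zero, Category.assoc, reassoc_of% (hδcok n).1, zero_comp, comp_zero])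
  let L : CochainComplex A ℤ := CochainComplex.of (fun n => ι.obj (S n).L) (fun n => (S n).π ≫ δ n) (fun n => by
    rw [Category.assoc, reassoc_of% (hδcok n).1, zero_comp, comp_zero])
  have hL : ∀ n, L.d n (n + 1) = (S n).π ≫ δ n := fun n => by simp [L]
  let eI : L ≅ (ι.mapHomologicalComplex (ComplexShape.up ℤ)).obj I :=
    HomologicalComplex.Hom.isoOfComponents (fun n => Iso.refl _) (fun i j (h : i + 1 = j) => by
      subst h
      refine (Category.id_comp _).trans (Eq.trans ?_ (Category.comp_id _).symm)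
      change ι.map (I.d i (i + 1)) = L.d i (i + 1)
      simp [I, hL])
  let α : K ⟶ L :=
    { f := fun n => (S n).α
      comm' := fun i j (h : i + 1 = j) => by
        subst h
        show (S i).α ≫ L.d i (i + 1) = K.d i (i + 1) ≫ (S (i + 1)).α
        rw [hL, ← Category.assoc, ← (S i).comm, Category.assoc]
        erw [hδc i]
        rw [← Category.assoc, K.p_fromOpcycles] }
  suffices hqis : QuasiIso α by
    haveI := hqis
    exact ⟨I, α ≫ eI.hom, (CochainComplex.isStrictlyGE_iff _ _).2 fun n hn => by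
      show IsZero (S n).L
      simp only [S]
      rw [st, dif_pos hn]
      exact hZ, fun n => (S n).inj, inferInstance⟩
  refine ⟨fun n => ?_⟩
  · haveI := (S n).hπ
    have hd0 : L.d (n - 1) n ≫ (S n).π = 0 := by
      obtain ⟨m, rfl⟩ : ∃ m, n = m + 1 := ⟨n - 1, by omega⟩
      rw [show m + 1 - 1 = m by omega, hL, Category.assoc, (hδcok m).1, comp_zero]
    let e : L.opcycles n ⟶ (S n).Q := L.descOpcycles (S n).π (n - 1) (by simp) hd0
    have he : L.pOpcycles n ≫ e = (S n).π := L.p_descOpcycles _ _ _ _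
    obtain ⟨e', he'⟩ : ∃ e' : (S n).Q ⟶ L.opcycles n, (S n).π ≫ e' = L.pOpcycles n := by
      obtain ⟨m, rfl⟩ : ∃ m, n = m + 1 := ⟨n - 1, by omega⟩
      refine (hδcok m).2 _ ?_
      haveI := (S m).hπ
      rw [← cancel_epi (S m).π, ← Category.assoc, ← hL, comp_zero, L.d_pOpcycles]
    haveI : IsIso e := ⟨e', by rw [← cancel_epi (L.pOpcycles n), reassoc_of% he, he', Category.comp_id],
      by rw [← cancel_epi (S n).π, reassoc_of% he', he, Category.comp_id]⟩
    have hop : HomologicalComplex.opcyclesMap α n ≫ e = (S n).c := by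
      rw [← cancel_epi (K.pOpcycles n), HomologicalComplex.p_opcyclesMap_assoc, he, (S n).comm]
    have hfrom : e ≫ δ n = L.fromOpcycles n (n + 1) := by
      rw [← cancel_epi (L.pOpcycles n), reassoc_of% he, L.p_fromOpcycles, hL]
    rw [quasiIsoAt_iff_isIso_homologyMap]
    haveI : Mono (HomologicalComplex.homologyMap α n) := Preadditive.mono_of_cancel_zero _ fun {T} g hg => by
      rw [← cancel_mono (K.homologyι n), zero_comp]
      refine (S n).hc _ (by rw [Category.assoc, K.homologyι_comp_fromOpcycles, comp_zero]) ?_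
      rw [← hop, Category.assoc, ← HomologicalComplex.homologyι_naturality_assoc, reassoc_of% hg, zero_comp]
    haveI : Epi (HomologicalComplex.homologyMap α n) := by
      obtain ⟨y, hy, hy0⟩ := hδker n (L.homologyι n ≫ e) (by
        rw [Category.assoc, hfrom, L.homologyι_comp_fromOpcycles])
      let z : L.homology n ⟶ K.homology n :=
        (K.homologyIsKernel n (n + 1) (by simp)).lift (KernelFork.ofι y hy0)
      have hz : z ≫ K.homologyι n = y :=
        (K.homologyIsKernel n (n + 1) (by simp)).fac _ WalkingParallelPair.zero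
      have hzid : z ≫ HomologicalComplex.homologyMap α n = 𝟙 _ := by
        rw [← cancel_mono (L.homologyι n), Category.assoc, HomologicalComplex.homologyι_naturality,
          reassoc_of% hz, ← cancel_mono e, Category.assoc, hop, hy, Category.id_comp]
      exact (SplitEpi.mk z hzid).epi
    exact isIso_of_mono_of_epi _

end DerCatFF.EssImage
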